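import Groth.Agent.Lib.AlgSt.IsoNat.Bald.Univ

/-!
# The transfer of morphisms between values of charts without automorphisms
-/

set_option backward.isDefEq.respectTransparency false
set_option backward.isDefEq.respectTransparency.types false

universe u

open CategoryTheory CategoryTheory.Limits AlgebraicGeometry Opposite

namespace GrothLib.IsoNat.Bald

open _root_.AlgSt GrothLib.FibCat GrothLib.AlgSt

variable {S : Scheme.{u}} {𝒳 𝒴 : _root_.AlgSt.Cat S} {U : Over S} {x : _root_.FibCat.overCat U ⥤ᵇ 𝒳}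
  {y : _root_.FibCat.overCat U ⥤ᵇ 𝒴}

/-- Morphisms from the values at smooth points are determined by their bases. -/
def Rigid (x : _root_.FibCat.overCat U ⥤ᵇ 𝒳) : Prop :=
  ∀ {T : Over S} (a b : T ⟶ U), Smooth a.left → Subsingleton (E x a b)

/-- Morphisms between values of one chart have counterparts for the other. -/
def Transfers (x : _root_.FibCat.overCat U ⥤ᵇ 𝒳) (y : _root_.FibCat.overCat U ⥤ᵇ 𝒴) : Prop :=
  ∀ {T : Over S} (a b : T ⟶ U), E x a b → Nonempty (E y a b)

/-- The counterpart of the universal morphism. -/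
noncomputable def Univ.nu (D : Univ x) (tr : Transfers x y) : E y D.a₀ D.b₀ := (tr D.a₀ D.b₀ D.u₀).some

/-- The defining property of the transferred morphism. -/
def IsTh (D : Univ x) (tr : Transfers x y) {T : Over S} {a b : T ⟶ U} (u : E x a b) (ν : E y a b) : Prop :=
  ∀ {V : Over S} {a' b' : V ⟶ U} (c : V ⟶ T) (k : V ⟶ D.W) (ha : k ≫ D.a₀ = a') (hb : k ≫ D.b₀ = b')
    (ha' : c ≫ a = a') (hb' : c ≫ b = b'),
    E.res k ha hb D.u₀ = E.res c ha' hb' u → E.res k ha hb (D.nu tr) = E.res c ha' hb' ν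

variable (hy : Rigid y)
include hy

theorem nu_wd (D : Univ x) (tr : Transfers x y) {T : Over S} {a b : T ⟶ U} (k k' : T ⟶ D.W)
    (ha : k ≫ D.a₀ = a) (hb : k ≫ D.b₀ = b) (ha' : k' ≫ D.a₀ = a) (hb' : k' ≫ D.b₀ = b)
    (e : E.res k ha hb D.u₀ = E.res k' ha' hb' D.u₀) :
    E.res k ha hb (D.nu tr) = E.res k' ha' hb' (D.nu tr) := by
  obtain ⟨P, p, p', l, hp, hpa, hpb, rfl, rfl⟩ := D.pair k k' ha hb ha' hb' e
  have h1 : E.res p rfl rfl (D.nu tr) = E.res p' hpa hpb (D.nu tr) := @Subsingleton.elim _ (hy _ _ hp) _ _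
  have h2 := congrArg (E.res l (a' := a) (b' := b) (by rw [← Category.assoc]; exact ha)
    (by rw [← Category.assoc]; exact hb)) h1
  rw [E.res_res, E.res_res] at h2
  exact h2

variable (hst' : _root_.Stk.IsStack (AlgSp.J S) 𝒴)
include hst'

theorem existsUnique_isTh (D : Univ x) (tr : Transfers x y) {T : Over S} {a b : T ⟶ U} (u : E x a b) :
    ∃! ν : E y a b, IsTh D tr u ν := by
  obtain ⟨R, hR, hloc⟩ := D.loc u
  choose k hka hkb hku using @hloc
  let e : ∀ {V : Over S} (c : V ⟶ T), R c → E y (c ≫ a) (c ≫ b) := fun c hc =>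
    E.res (k c hc) (hka c hc) (hkb c hc) (D.nu tr)
  obtain ⟨ν, hν⟩ := E_glue hst' hR e (fun {W V} l c hc hlc => by
    change E.res l _ _ (E.res (k c hc) _ _ (D.nu tr)) = E.res (k (l ≫ c) hlc) _ _ (D.nu tr)
    rw [E.res_res]
    refine nu_wd hy D tr _ _ _ _ _ _ ?_
    rw [hku]
    refine Eq.trans ?_ (E.res_res l c rfl rfl (Category.assoc l c a).symm (Category.assoc l c b).symm u)
    rw [← hku, E.res_res])
  refine ⟨ν, ?_, fun ν' hν' => ?_⟩
  · intro V a' b' c k' ha hb ha' hb' e'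
    subst ha' hb'
    refine E_ext hst' ((AlgSp.J S).pullback_stable c hR) _ _ fun {W} l hl => ?_
    have hlc : R (l ≫ c) := hl
    refine (E.res_res l k' ha hb rfl rfl (D.nu tr)).trans ?_
    refine Eq.trans ?_ (E.res_res l c rfl rfl rfl rfl ν).symm
    have gen : ∀ {a'' b'' : W ⟶ U} (h1 : (l ≫ c) ≫ a = a'') (h2 : (l ≫ c) ≫ b = b''),
        E.res (l ≫ c) h1 h2 ν = E.res (k (l ≫ c) hlc) ((hka _ hlc).trans h1) ((hkb _ hlc).trans h2) (D.nu tr) := by
      intro a'' b'' h1 h2; subst h1 h2; exact hν _ hlc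
    rw [gen]
    refine nu_wd hy D tr _ _ _ _ _ _ ?_
    have h3 := congrArg (E.res l rfl rfl) e'
    rw [E.res_res, E.res_res] at h3
    refine h3.trans ?_
    have gen2 : ∀ {a'' b'' : W ⟶ U} (h1 : (l ≫ c) ≫ a = a'') (h2 : (l ≫ c) ≫ b = b''),
        E.res (l ≫ c) h1 h2 u = E.res (k (l ≫ c) hlc) ((hka _ hlc).trans h1) ((hkb _ hlc).trans h2) D.u₀ := by
      intro a'' b'' h1 h2; subst h1 h2; exact (hku _ hlc).symm
    exact gen2 _ _
  · exact E_ext hst' hR ν' ν fun {V} c hc =>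
      (hν' c (k c hc) (hka c hc) (hkb c hc) rfl rfl (hku c hc)).symm.trans (hν c hc).symm

/-- The transferred morphism. -/
noncomputable def th (D : Univ x) (tr : Transfers x y) {T : Over S} {a b : T ⟶ U} (u : E x a b) : E y a b :=
  (existsUnique_isTh hy hst' D tr u).exists.choose

theorem isTh_th (D : Univ x) (tr : Transfers x y) {T : Over S} {a b : T ⟶ U} (u : E x a b) :
    IsTh D tr u (th hy hst' D tr u) :=
  (existsUnique_isTh hy hst' D tr u).exists.choose_spec

theorem th_res (D : Univ x) (tr : Transfers x y) {T T' : Over S} {a b : T ⟶ U} {a' b' : T' ⟶ U} (g : T' ⟶ T)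
    (hga : g ≫ a = a') (hgb : g ≫ b = b') (u : E x a b) :
    th hy hst' D tr (E.res g hga hgb u) = E.res g hga hgb (th hy hst' D tr u) := by
  refine (existsUnique_isTh hy hst' D tr _).unique (isTh_th hy hst' D tr _) ?_
  intro V a'' b'' c k ha hb ha' hb' e
  rw [E.res_res] at e ⊢
  exact isTh_th hy hst' D tr u (c ≫ g) k ha hb _ _ e

variable (hst : _root_.Stk.IsStack (AlgSp.J S) 𝒳) (hx : Rigid x)

include hst hx in
/-- The transfers in the two directions are inverse. -/
theorem th_th (D : Univ x) (tr : Transfers x y) (D' : Univ y) (tr' : Transfers y x) {T : Over S} {a b : T ⟶ U}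
    (u : E x a b) : th hx hst D' tr' (th hy hst' D tr u) = u := by
  obtain ⟨R, hR, hloc⟩ := D.loc u
  refine E_ext hst hR _ _ fun {V} c hc => ?_
  obtain ⟨k, hka, hkb, hku⟩ := hloc c hc
  rw [← th_res hx hst D' tr', ← th_res hy hst' D tr, ← hku, th_res hy hst' D tr, th_res hx hst D' tr']
  exact congrArg (E.res k hka hkb) (@Subsingleton.elim _ (hx _ _ D.sm) _ _)

include hst in
/-- The transfer respects composition. -/
theorem th_star (D : Univ x) (tr : Transfers x y) {T : Over S} {a b c : T ⟶ U} (u : E x a b) (u' : E x b c) :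
    th hy hst' D tr (star hst.1 u u') = star hst'.1 (th hy hst' D tr u) (th hy hst' D tr u') := by
  obtain ⟨R, hR, hloc⟩ := D.loc u
  refine E_ext hst' hR _ _ fun {V} g hg => ?_
  obtain ⟨k, hka, hkb, hku⟩ := hloc g hg
  obtain ⟨R', hR', hloc'⟩ := D.loc (E.res g rfl rfl u')
  refine E_ext hst' hR' _ _ fun {W} l hl => ?_
  obtain ⟨k', hka', hkb', hku'⟩ := hloc' l hl
  let Q : Over S := Over.mk (pullback.fst D.b₀.left D.a₀.left ≫ D.W.hom)
  let q₁ : Q ⟶ D.W := Over.homMk (pullback.fst D.b₀.left D.a₀.left) rfl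
  let q₂ : Q ⟶ D.W := Over.homMk (pullback.snd D.b₀.left D.a₀.left) (by
    change pullback.snd D.b₀.left D.a₀.left ≫ D.W.hom = pullback.fst D.b₀.left D.a₀.left ≫ D.W.hom
    exact (congrArg (pullback.snd D.b₀.left D.a₀.left ≫ ·) (Over.w D.a₀).symm).trans
      ((pullback.condition_assoc U.hom).symm.trans
        (congrArg (pullback.fst D.b₀.left D.a₀.left ≫ ·) (Over.w D.b₀))))
  have hw : (l ≫ k) ≫ D.b₀ = k' ≫ D.a₀ := by rw [Category.assoc, hkb, hka']
  let m : W ⟶ Q := Over.homMk (pullback.lift (l ≫ k).left k'.left (congrArg Over.Hom.left hw)) (by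
    change pullback.lift _ _ _ ≫ pullback.fst _ _ ≫ D.W.hom = W.hom
    rw [pullback.lift_fst_assoc, Over.w])
  have hm₁ : m ≫ q₁ = l ≫ k := Over.OverMorphism.ext (pullback.lift_fst _ _ _)
  have hm₂ : m ≫ q₂ = k' := Over.OverMorphism.ext (pullback.lift_snd _ _ _)
  have hq : q₂ ≫ D.a₀ = q₁ ≫ D.b₀ := Over.OverMorphism.ext pullback.condition.symm
  have hsm : Smooth (q₁ ≫ D.a₀).left := by
    have := D.sm
    have : Smooth q₁.left := (inferInstance : Smooth (pullback.fst D.b₀.left D.a₀.left))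
    rw [Over.comp_left]; infer_instance
  let A := E.res q₁ rfl rfl D.u₀
  let B : E x (q₁ ≫ D.b₀) (q₂ ≫ D.b₀) := E.res q₂ hq rfl D.u₀
  have eQ : th hy hst' D tr (star hst.1 A B) = star hst'.1 (th hy hst' D tr A) (th hy hst' D tr B) :=
    @Subsingleton.elim _ (hy _ _ hsm) _ _
  have e1 : m ≫ q₁ ≫ D.a₀ = l ≫ g ≫ a := by rw [← Category.assoc, hm₁, Category.assoc, hka]
  have e2 : m ≫ q₁ ≫ D.b₀ = l ≫ g ≫ b := by rw [← Category.assoc, hm₁, Category.assoc, hkb]
  have e3 : m ≫ q₂ ≫ D.b₀ = l ≫ g ≫ c := by rw [← Category.assoc, hm₂, hkb']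
  have hA : E.res m e1 e2 A = E.res l rfl rfl (E.res g rfl rfl u) := by
    rw [← hku, E.res_res, E.res_res]
    exact E.res_congr hm₁ _ _ _
  have hB : E.res m e2 e3 B = E.res l rfl rfl (E.res g rfl rfl u') := by
    rw [← hku', E.res_res]
    exact E.res_congr hm₂ _ _ _
  calc E.res l rfl rfl (E.res g rfl rfl (th hy hst' D tr (star hst.1 u u')))
      = th hy hst' D tr (E.res m e1 e3 (star hst.1 A B)) := by
        rw [res_star hst.1 m e1 e2 e3, hA, hB, ← res_star hst.1 l rfl rfl rfl, ← res_star hst.1 g rfl rfl rfl,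
          th_res, th_res]
    _ = E.res m e1 e3 (star hst'.1 (th hy hst' D tr A) (th hy hst' D tr B)) := by rw [th_res, eQ]
    _ = E.res l rfl rfl (E.res g rfl rfl (star hst'.1 (th hy hst' D tr u) (th hy hst' D tr u'))) := by
        rw [res_star hst'.1 m e1 e2 e3, res_star hst'.1 g rfl rfl rfl, res_star hst'.1 l rfl rfl rfl,
          ← th_res, ← th_res, hA, hB, th_res, th_res, th_res, th_res]

end GrothLib.IsoNat.Bald
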