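import Groth.Agent.Lib.AlgSt.IsoNat.Bald.Rigid
import Groth.Agent.Lib.AlgSt.IsoNat.Bald.Theta
import Groth.Agent.Lib.AlgSt.IsoNat.Surj
import Groth.Agent.Lib.AlgSt.SmoothLocally
import Groth.Agent.Lib.Stk.MatchEquiv

/-!
# Bald stacks are determined by their isomorphism classes
-/

set_option backward.isDefEq.respectTransparency false
set_option backward.isDefEq.respectTransparency.types false

universe u

open CategoryTheory CategoryTheory.Limits AlgebraicGeometry Opposite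

namespace GrothLib.IsoNat.Bald

open _root_.AlgSt GrothLib.FibCat GrothLib.AlgSt GrothLib.Axes

variable {S : Scheme.{u}} {𝒳 𝒴 : _root_.AlgSt.Cat S} {U : Over S}

/-- The indices of the values of a chart. -/
abbrev Pts (U : Over S) : Type (u + 1) := Σ T : Over S, (T ⟶ U)

/-- The value of a chart. -/
abbrev val (x : _root_.FibCat.overCat U ⥤ᵇ 𝒳) (i : Pts U) : 𝒳.obj := x.obj (Over.mk i.2)

section Push

variable {x : _root_.FibCat.overCat U ⥤ᵇ 𝒳} {y : _root_.FibCat.overCat U ⥤ᵇ 𝒴} (hy : Rigid y)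
  (hst : _root_.Stk.IsStack (AlgSp.J S) 𝒳) (hst' : _root_.Stk.IsStack (AlgSp.J S) 𝒴)
  (D : Univ x) (tr : Transfers x y)

/-- The base of a morphism of values. -/
abbrev baseHom (x : _root_.FibCat.overCat U ⥤ᵇ 𝒳) {i j : Pts U} (μ : val x i ⟶ val x j) : i.1 ⟶ j.1 :=
  eqToHom (x.w_obj (Over.mk i.2)).symm ≫ 𝒳.p.map μ ≫ eqToHom (x.w_obj (Over.mk j.2))

theorem baseHom_lift {i j : Pts U} (μ : val x i ⟶ val x j) : 𝒳.p.IsHomLift (baseHom x μ) μ :=
  IsHomLift.of_fac 𝒳.p _ _ (x.w_obj (Over.mk i.2)) (x.w_obj (Over.mk j.2)) rfl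

/-- The element of a morphism of values. -/
def elem {i j : Pts U} (r : i.1 ⟶ j.1) (μ : val x i ⟶ val x j) (hμ : 𝒳.p.IsHomLift r μ) :
    E x i.2 (r ≫ j.2) :=
  ⟨μ ≫ x.map (Yon.toId (Over.mk j.2)), have := hμ; have := toId_lift' x j.2; inferInstance⟩

theorem eq_vert_rmap (hG : _root_.FibCat.IsFibGrpd 𝒳.p) {i j : Pts U} (r : i.1 ⟶ j.1) (μ : val x i ⟶ val x j)
    (hμ : 𝒳.p.IsHomLift r μ) (u : E x i.2 (r ≫ j.2)) (e : μ ≫ x.map (Yon.toId (Over.mk j.2)) = u.1) :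
    μ = vert hG u ≫ rmap x r rfl := by
  have := vert_lift hG u
  have := rmap_lift x r (a := j.2) rfl
  have := toId_lift' x j.2
  have := hμ
  have : 𝒳.p.IsHomLift r (vert hG u ≫ rmap x r (a := j.2) rfl) := IsHomLift.comp_lift_id_left' 𝒳.p i.1 _ _ _
  refine IsFibGrpd.hom_ext hG r j.2 (x.map (Yon.toId (Over.mk j.2))) ?_
  rw [Category.assoc, rmap_toId, vert_toId, e]

include hy hst' in
theorem existsUnique_push {i j : Pts U} (μ : val x i ⟶ val x j) :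
    ∃! ν : val y i ⟶ val y j, 𝒴.p.IsHomLift (baseHom x μ) ν ∧
      ν ≫ y.map (Yon.toId (Over.mk j.2)) = (th hy hst' D tr (elem (baseHom x μ) μ (baseHom_lift μ))).1 := by
  have := toId_lift' y j.2
  have := (th hy hst' D tr (elem (baseHom x μ) μ (baseHom_lift μ))).2
  exact IsFibGrpd.existsUnique_lift hst'.1 j.2 (baseHom x μ) _ _

/-- The transferred morphism of values. -/
noncomputable def push {i j : Pts U} (μ : val x i ⟶ val x j) : val y i ⟶ val y j :=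
  (existsUnique_push hy hst' D tr μ).exists.choose

theorem push_lift {i j : Pts U} (μ : val x i ⟶ val x j) :
    𝒴.p.IsHomLift (baseHom x μ) (push hy hst' D tr μ) :=
  (existsUnique_push hy hst' D tr μ).exists.choose_spec.1

theorem push_lift' {i j : Pts U} {V W : Over S} (r : V ⟶ W) (μ : val x i ⟶ val x j) (hμ : 𝒳.p.IsHomLift r μ) :
    𝒴.p.IsHomLift r (push hy hst' D tr μ) := by
  have := hμ
  have hb := baseHom_lift μ
  obtain rfl := (IsHomLift.domain_eq 𝒳.p r μ).symm.trans (IsHomLift.domain_eq 𝒳.p (baseHom x μ) μ)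
  obtain rfl := (IsHomLift.codomain_eq 𝒳.p r μ).symm.trans (IsHomLift.codomain_eq 𝒳.p (baseHom x μ) μ)
  obtain rfl := eq_of_lifts 𝒳.p μ hμ hb
  exact push_lift hy hst' D tr μ

theorem push_toId {i j : Pts U} (r : i.1 ⟶ j.1) (μ : val x i ⟶ val x j) (hμ : 𝒳.p.IsHomLift r μ) :
    push hy hst' D tr μ ≫ y.map (Yon.toId (Over.mk j.2)) = (th hy hst' D tr (elem r μ hμ)).1 := by
  obtain rfl := eq_of_lifts 𝒳.p μ hμ (baseHom_lift μ)
  exact (existsUnique_push hy hst' D tr μ).exists.choose_spec.2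

include hst in
theorem push_comp {i j k : Pts U} (μ : val x i ⟶ val x j) (μ' : val x j ⟶ val x k) :
    push hy hst' D tr (μ ≫ μ') = push hy hst' D tr μ ≫ push hy hst' D tr μ' := by
  obtain ⟨r, hr⟩ : ∃ r : i.1 ⟶ j.1, 𝒳.p.IsHomLift r μ := ⟨_, baseHom_lift μ⟩
  obtain ⟨r', hr'⟩ : ∃ r : j.1 ⟶ k.1, 𝒳.p.IsHomLift r μ' := ⟨_, baseHom_lift μ'⟩
  have hrr : 𝒳.p.IsHomLift (r ≫ r') (μ ≫ μ') := inferInstance
  have e1 : elem (r ≫ r') (μ ≫ μ') hrr =
      star hst.1 (elem r μ hr) (E.res r rfl (Category.assoc r r' k.2).symm (elem r' μ' hr')) := by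
    refine Subtype.ext ?_
    change (μ ≫ μ') ≫ _ = vert hst.1 (elem r μ hr) ≫ rmap x r rfl ≫ μ' ≫ _
    conv_lhs => rw [eq_vert_rmap hst.1 r μ hr (elem r μ hr) rfl]
    simp only [Category.assoc]
  have h1 := push_lift' hy hst' D tr r μ hr
  have h2 := push_lift' hy hst' D tr r' μ' hr'
  have h3 := push_lift' hy hst' D tr (r ≫ r') (μ ≫ μ') hrr
  have := toId_lift' y k.2
  refine IsFibGrpd.hom_ext hst'.1 (r ≫ r') k.2 (y.map (Yon.toId (Over.mk k.2))) ?_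
  rw [push_toId hy hst' D tr (r ≫ r') (μ ≫ μ') hrr, e1, th_star hy hst' hst D tr, th_res hy hst' D tr]
  change vert hst'.1 (th hy hst' D tr (elem r μ hr)) ≫ rmap y r rfl ≫ (th hy hst' D tr (elem r' μ' hr')).1 = _
  rw [← push_toId hy hst' D tr r' μ' hr', ← Category.assoc,
    ← eq_vert_rmap hst'.1 r (push hy hst' D tr μ) h1 _ (push_toId hy hst' D tr r μ hr), Category.assoc]

include hst in
theorem push_push (hx : Rigid x) (D' : Univ y) (tr' : Transfers y x) {i j : Pts U} (μ : val x i ⟶ val x j) :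
    push hx hst D' tr' (push hy hst' D tr μ) = μ := by
  have hr := baseHom_lift μ
  have h1 := push_lift hy hst' D tr μ
  have h2 := push_lift' hx hst D' tr' (baseHom x μ) (push hy hst' D tr μ) h1
  have := toId_lift' x j.2
  refine IsFibGrpd.hom_ext hst.1 (baseHom x μ) j.2 (x.map (Yon.toId (Over.mk j.2))) ?_
  rw [push_toId hx hst D' tr' (baseHom x μ) (push hy hst' D tr μ) h1,
    show elem (baseHom x μ) (push hy hst' D tr μ) h1 = th hy hst' D tr (elem (baseHom x μ) μ hr) from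
      Subtype.ext (push_toId hy hst' D tr (baseHom x μ) μ hr),
    th_th hy hst' hst hx D tr D' tr']
  rfl

/-- The matched families of values. -/
noncomputable def matchData (hx : Rigid x) (D' : Univ y) (tr' : Transfers y x) :
    GrothLib.Stk.MatchEquiv.Data.{u + 1} 𝒳 𝒴 where
  ι := Pts U
  base i := i.1
  X := val x
  Y := val y
  hX i := x.w_obj (Over.mk i.2)
  hY i := y.w_obj (Over.mk i.2)
  res i W r := ⟨⟨W, r ≫ i.2⟩, rmap x r rfl, rmap_lift x r rfl⟩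
  Θ :=
    { toFun := push hy hst' D tr
      invFun := push hx hst D' tr'
      left_inv := push_push hy hst hst' D tr hx D' tr'
      right_inv := push_push hx hst' hst D' tr' hy D tr }
  Θ_comp μ ν := push_comp hy hst hst' D tr μ ν
  Θ_lift r μ h := push_lift' hy hst' D tr r μ h

end Push

section Charts

variable (hst : _root_.Stk.IsStack (AlgSp.J S) 𝒳) (hst' : _root_.Stk.IsStack (AlgSp.J S) 𝒴)
  {φ : _root_.IsoNat.FIso 𝒳 𝒴} {x : _root_.FibCat.overCat U ⥤ᵇ 𝒳} {y : _root_.FibCat.overCat U ⥤ᵇ 𝒴}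
  (hxy : φ.toEquiv U (_root_.IsoNat.objCls x) = _root_.IsoNat.objCls y)

theorem rigid_of_chart (hd : RepByAlgSpWith AlgSp.IsSeparatedMor (_root_.FibCat.diag (_root_.FibCat.toSelf 𝒳)))
    (hG : _root_.FibCat.IsFibGrpd 𝒳.p) (hb : IsBald 𝒳) (hx : RepByAlgSpWith (AlgSp.LocP @Smooth) x) : Rigid x :=
  fun a _ ha => subsingleton_of_rigid hG fun s hs => rigid_point hd hG hb x hx a ha s hs

include hst' hxy in
theorem corr_val {T : Over S} (a : T ⟶ U) : Corr φ T (x.obj (Over.mk a)) (y.obj (Over.mk a)) := by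
  obtain ⟨y', C⟩ := Corr.exists_right φ (x.w_obj (Over.mk a) : 𝒳.p.obj (x.obj (Over.mk a)) = T)
  obtain ⟨v, hv⟩ := C.transfer (corr_of_objCls hxy) a _ (toId_lift' x a)
  obtain ⟨hX, hY, e⟩ := C
  have := toId_lift' y a
  have : 𝒴.p.IsHomLift (𝟙 T ≫ a) v := by rw [Category.id_comp]; exact hv
  obtain ⟨i, ⟨hi, -⟩, -⟩ := IsFibGrpd.existsUnique_lift hst'.1 a (𝟙 T) (y.map (Yon.toId (Over.mk a))) v
  exact ⟨hX, y.w_obj _, e.trans (Quotient.sound (nonempty_fiber_iso hst'.1 i hi))⟩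

include hst' hxy in
theorem transfers_of_corr : Transfers x y := fun a b u => by
  obtain ⟨v, hv⟩ := (corr_val hst' hxy a).transfer (corr_of_objCls hxy) b u.1 u.2
  exact ⟨⟨v, hv⟩⟩

include hst in
/-- Every object comes locally from a smooth surjective chart. -/
theorem locally_val (hxs : RepByAlgSpWith (AlgSp.LocP @Smooth) x) (hxu : RepByAlgSpWith AlgSp.IsSurjectiveMor x)
    (a : 𝒳.obj) : ∃ R ∈ AlgSp.J S (𝒳.p.obj a), ∀ {V : Over S} (g : V ⟶ 𝒳.p.obj a), R g →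
      ∃ (i : Pts U) (κ : val x i ⟶ a), 𝒳.p.IsHomLift g κ := by
  obtain ⟨G, eX, heX⟩ := Yon.exists_functor hst.1 a (rfl : 𝒳.p.obj a = _)
  obtain ⟨F, e, he, hsm, hsu⟩ := repByAlgSpWith_inf isoInvariant_locP hxs hxu (𝒳.p.obj a) G
  obtain ⟨M⟩ := exists_model G x e hst.1 he
  obtain ⟨W, m, hm, hms⟩ := F.property.atlas
  obtain ⟨h, hh⟩ := (AlgSp.yon S).map_surjective (m ≫ spMapOfOver (BasedFunctor.comp e (_root_.FibCat.fpFst G x)))
  have : Smooth h.left := hsm m (𝟙 _) h hm (_root_.AlgSp.repWith_id _ _) (by rw [Category.comp_id, hh])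
  have : Surjective h.left := by
    refine ⟨fun p => ?_⟩
    obtain ⟨z, hz⟩ := hsu (AlgSp.Points.schemeHomeo (𝒳.p.obj a) p)
    obtain ⟨v, rfl⟩ := GrothLib.AlgSp.surjective_map_of_repWith hms z
    obtain ⟨v, rfl⟩ := (AlgSp.Points.schemeHomeo W).surjective v
    rw [← AlgSp.Points.map_comp, ← hh, AlgSp.Points.map_yon_map_apply] at hz
    exact ⟨v, (AlgSp.Points.schemeHomeo (𝒳.p.obj a)).injective hz⟩
  obtain ⟨z, v, w, hR⟩ := M.surj m
  obtain ⟨b, hb, hbφ⟩ := M.base hR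
  have hbh : h = b := (AlgSp.yon S).map_injective (hh.trans hbφ)
  subst hbh
  have hz : 𝒳.p.obj z = W := M.obj_eq hR
  let b₀ : W ⟶ U := eqToHom hz.symm ≫ 𝒳.p.map w ≫ eqToHom (x.w_obj (Yon.idObj U))
  have hw : 𝒳.p.IsHomLift b₀ w := IsHomLift.of_fac 𝒳.p _ _ hz (x.w_obj _) rfl
  have := toId_lift' x b₀
  have : 𝒳.p.IsHomLift (𝟙 W ≫ b₀) (x.map (Yon.toId (Over.mk b₀))) := by rw [Category.id_comp]; infer_instance
  obtain ⟨i, ⟨hi, -⟩, -⟩ := IsFibGrpd.existsUnique_lift hst.1 b₀ (𝟙 W) w (x.map (Yon.toId (Over.mk b₀)))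
  have := heX
  have : 𝒳.p.IsHomLift h (v ≫ eX.hom) := IsHomLift.comp_lift_id_right' 𝒳.p h v (𝒳.p.obj a) eX.hom
  have hκ : 𝒳.p.IsHomLift h (i ≫ v ≫ eX.hom) := IsHomLift.comp_lift_id_left' 𝒳.p W i h _
  refine ⟨_, GrothLib.AlgSt.generate_singleton_mem_J h, fun {V} g hg => ?_⟩
  obtain ⟨_, l, _, ⟨⟩, rfl⟩ := hg
  have := rmap_lift x l (a := b₀) rfl
  exact ⟨⟨V, l ≫ b₀⟩, rmap x l rfl ≫ i ≫ v ≫ eX.hom, inferInstance⟩

include hst hst' hxy in
theorem locally_val_transfer (hxs : RepByAlgSpWith (AlgSp.LocP @Smooth) x)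
    (hxu : RepByAlgSpWith AlgSp.IsSurjectiveMor x) (b : 𝒴.obj) :
    ∃ R ∈ AlgSp.J S (𝒴.p.obj b), ∀ {V : Over S} (g : V ⟶ 𝒴.p.obj b), R g →
      ∃ (i : Pts U) (κ : val y i ⟶ b), 𝒴.p.IsHomLift g κ := by
  obtain ⟨ψ, hψ⟩ := exists_fiso_symm hst.1 hst'.1 φ
  obtain ⟨ξ, hξ⟩ := Corr.exists_right ψ (rfl : 𝒴.p.obj b = _)
  obtain ⟨-, hξV, -⟩ := id hξ
  obtain ⟨R, hR, hloc⟩ := locally_val hst hxs hxu ξ
  refine ⟨R.pullback (eqToHom hξV.symm), (AlgSp.J S).pullback_stable _ hR, fun {V} g hg => ?_⟩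
  obtain ⟨⟨V', t⟩, κ, hκ⟩ := hloc _ hg
  obtain rfl : V' = V :=
    ((x.w_obj (Over.mk t)).symm.trans (IsHomLift.domain_eq 𝒳.p (g ≫ eqToHom hξV.symm) κ) : _)
  have hκ' : 𝒳.p.IsHomLift g κ := IsHomLift.of_fac' 𝒳.p _ _ (x.w_obj (Over.mk t)) hξV (by
    rw [IsHomLift.fac' 𝒳.p (g ≫ eqToHom hξV.symm) κ]; simp)
  obtain ⟨v, hv⟩ := (corr_val hst' hxy t).transfer
    (hξ.symm φ (fun T => by rw [hψ, Equiv.symm_symm])) g κ hκ'
  exact ⟨⟨V', t⟩, v, hv⟩

end Charts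

/-- Bald stacks are determined by their presheaves of isomorphism classes. -/
theorem exists_isEquivOver_of_bald (h𝒳 : IsAlgStack Scheme.fppfPrecoverage 𝒳)
    (hd : RepByAlgSpWith AlgSp.IsSeparatedMor (_root_.FibCat.diag (_root_.FibCat.toSelf 𝒳))) (hb : IsBald 𝒳)
    (h𝒴 : IsAlgStack Scheme.fppfPrecoverage 𝒴)
    (hd' : RepByAlgSpWith AlgSp.IsSeparatedMor (_root_.FibCat.diag (_root_.FibCat.toSelf 𝒴))) (hb' : IsBald 𝒴)
    (hI' : RepByAlgSpWith (AlgSp.LocP @LocallyOfFinitePresentation)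
      (_root_.FibCat.inertiaToBase (_root_.FibCat.toSelf 𝒴)))
    (φ : _root_.IsoNat.FIso 𝒳 𝒴) : ∃ e : 𝒳 ⥤ᵇ 𝒴, _root_.FibCat.IsEquivOver e := by
  obtain ⟨U, x, hxs, hxu⟩ := h𝒳.atlas
  have hst : _root_.Stk.IsStack (AlgSp.J S) 𝒳 := h𝒳.isStack
  have hst' : _root_.Stk.IsStack (AlgSp.J S) 𝒴 := h𝒴.isStack
  obtain ⟨y, hxy⟩ := exists_chart_of_class hst' φ x
  have h1 : RepByAlgSp1 y := repByAlgSp1_of_diag h𝒴.diag hst'.1 y
  have hxl : RepByAlgSpWith (AlgSp.LocP @LocallyOfFinitePresentation) x :=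
    repByAlgSpWith_mono (fun _ _ _ _ _ h => GrothLib.AlgSp.locP_mono
      (fun _ _ g hg => ((Groth.Agent.S1488.result g).1 hg).1) h) hxs
  have hl := repByAlgSpWith_lfp_of_corr hst hst' hxy h1 hI' hxl
  have hys := repByAlgSpWith_smooth_of_corr hst hst' hxy h1 hd' hl
    (repByAlgSpWith_mono (fun _ _ _ hX hY h => fs_of_locP_smooth hX hY h) hxs)
  have rx : Rigid x := rigid_of_chart hd hst.1 hb hxs
  have ry : Rigid y := rigid_of_chart hd' hst'.1 hb' hys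
  obtain ⟨D⟩ := exists_univ x hst.1 hxs
  obtain ⟨D'⟩ := exists_univ y hst'.1 hys
  obtain ⟨ψ, hψ⟩ := exists_fiso_symm hst.1 hst'.1 φ
  have hyx : ψ.toEquiv U (_root_.IsoNat.objCls y) = _root_.IsoNat.objCls x := by
    rw [hψ, ← hxy, Equiv.symm_apply_apply]
  let M := matchData ry hst hst' D (transfers_of_corr hst' hxy) rx D' (transfers_of_corr hst hyx)
  refine GrothLib.Stk.MatchEquiv.exists_isEquivOver hst hst' M (fun a => ?_) (fun b => ?_)
  · obtain ⟨R, hR, hloc⟩ := locally_val hst hxs hxu a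
    exact (AlgSp.J S).superset_covering (fun V g hg => hloc g hg) hR
  · obtain ⟨R, hR, hloc⟩ := locally_val_transfer hst hst' hxy hxs hxu b
    exact (AlgSp.J S).superset_covering (fun V g hg => hloc g hg) hR

end GrothLib.IsoNat.Bald
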