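import Groth.Agent.Lib.AlgSt.IsoNat.RepModel
import Groth.Agent.Lib.AlgSt.IsoClClean
import Groth.Agent.Lib.Stk.Descent

/-!
# Morphisms between the values of a chart, recorded as morphisms into its universal value
-/

set_option backward.isDefEq.respectTransparency false
set_option backward.isDefEq.respectTransparency.types false

universe u

open CategoryTheory CategoryTheory.Limits AlgebraicGeometry Opposite

namespace GrothLib.IsoNat.Bald

open _root_.AlgSt GrothLib.FibCat GrothLib.AlgSt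

variable {S : Scheme.{u}} {𝒳 : _root_.AlgSt.Cat S} {U : Over S} (x : _root_.FibCat.overCat U ⥤ᵇ 𝒳)

/-- Morphisms from the value at `a` to the universal value lying over `b`. -/
abbrev E {T : Over S} (a b : T ⟶ U) :=
  {u : x.obj (Over.mk a) ⟶ x.obj (Yon.idObj U) // 𝒳.p.IsHomLift b u}

/-- The restriction morphism between values. -/
abbrev rmap {T T' : Over S} (k : T' ⟶ T) {a : T ⟶ U} {a' : T' ⟶ U} (ha : k ≫ a = a') :
    x.obj (Over.mk a') ⟶ x.obj (Over.mk a) :=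
  x.map (Over.homMk k ha : Over.mk a' ⟶ Over.mk a)

theorem rmap_lift {T T' : Over S} (k : T' ⟶ T) {a : T ⟶ U} {a' : T' ⟶ U} (ha : k ≫ a = a') :
    𝒳.p.IsHomLift k (rmap x k ha) := by
  have : (_root_.FibCat.overCat U).p.IsHomLift k (Over.homMk k ha : Over.mk a' ⟶ Over.mk a) :=
    IsHomLift.map (_root_.FibCat.overCat U).p (Over.homMk k ha : Over.mk a' ⟶ Over.mk a)
  exact BasedFunctor.preserves_isHomLift x k _

theorem toId_lift' {T : Over S} (a : T ⟶ U) : 𝒳.p.IsHomLift a (x.map (Yon.toId (Over.mk a))) := by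
  have := Yon.toId_lift (U := U) (Over.mk a)
  exact BasedFunctor.preserves_isHomLift x (Over.mk a).hom _

theorem rmap_toId {T T' : Over S} (k : T' ⟶ T) {a : T ⟶ U} {a' : T' ⟶ U} (ha : k ≫ a = a') :
    rmap x k ha ≫ x.map (Yon.toId (Over.mk a)) = x.map (Yon.toId (Over.mk a')) := by
  rw [← x.map_comp, Yon.map_comp_toId]

theorem rmap_rmap {T T' T'' : Over S} (l : T'' ⟶ T') (k : T' ⟶ T) {a : T ⟶ U} {a' : T' ⟶ U} {a'' : T'' ⟶ U}
    (ha : k ≫ a = a') (ha' : l ≫ a' = a'') :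
    rmap x l ha' ≫ rmap x k ha = rmap x (l ≫ k) (by rw [Category.assoc, ha, ha']) := by
  rw [← x.map_comp]
  rfl

theorem rmap_id {T : Over S} {a : T ⟶ U} (ha : 𝟙 T ≫ a = a) : rmap x (𝟙 T) ha = 𝟙 _ := by
  have e : (Over.homMk (𝟙 T) ha : Over.mk a ⟶ Over.mk a) = 𝟙 _ := Over.OverMorphism.ext rfl
  exact (congrArg x.map e).trans (x.map_id _)

variable {x}

/-- Restriction. -/
def E.res {T T' : Over S} {a b : T ⟶ U} {a' b' : T' ⟶ U} (k : T' ⟶ T) (ha : k ≫ a = a') (hb : k ≫ b = b')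
    (u : E x a b) : E x a' b' :=
  ⟨rmap x k ha ≫ u.1, by have := rmap_lift x k ha; have := u.2; rw [← hb]; infer_instance⟩

theorem E.res_res {T T' T'' : Over S} {a b : T ⟶ U} {a' b' : T' ⟶ U} {a'' b'' : T'' ⟶ U} (l : T'' ⟶ T')
    (k : T' ⟶ T) (ha : k ≫ a = a') (hb : k ≫ b = b') (ha' : l ≫ a' = a'') (hb' : l ≫ b' = b'') (u : E x a b) :
    E.res l ha' hb' (E.res k ha hb u) =
      E.res (l ≫ k) (by rw [Category.assoc, ha, ha']) (by rw [Category.assoc, hb, hb']) u := by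
  refine Subtype.ext ?_
  change rmap x l ha' ≫ rmap x k ha ≫ u.1 = rmap x (l ≫ k) _ ≫ u.1
  rw [← Category.assoc, rmap_rmap]

theorem E.res_congr {T T' : Over S} {a b : T ⟶ U} {a' b' : T' ⟶ U} {k k' : T' ⟶ T} (e : k = k')
    (ha : k ≫ a = a') (hb : k ≫ b = b') (u : E x a b) :
    E.res k ha hb u = E.res k' (e ▸ ha) (e ▸ hb) u := by
  subst e; rfl

theorem E.res_id {T : Over S} {a b : T ⟶ U} (ha : 𝟙 T ≫ a = a) (hb : 𝟙 T ≫ b = b) (u : E x a b) :
    E.res (𝟙 T) ha hb u = u := by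
  refine Subtype.ext ?_
  change rmap x (𝟙 T) ha ≫ u.1 = u.1
  rw [rmap_id, Category.id_comp]

section Vert

variable (hG : _root_.FibCat.IsFibGrpd 𝒳.p)
include hG

theorem exists_vert {T : Over S} {a b : T ⟶ U} (u : E x a b) :
    ∃! v : x.obj (Over.mk a) ⟶ x.obj (Over.mk b),
      𝒳.p.IsHomLift (𝟙 T) v ∧ v ≫ x.map (Yon.toId (Over.mk b)) = u.1 := by
  have := toId_lift' x b
  have : 𝒳.p.IsHomLift (𝟙 T ≫ b) u.1 := by rw [Category.id_comp]; exact u.2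
  exact IsFibGrpd.existsUnique_lift hG b (𝟙 T) _ _

/-- The vertical morphism between the values. -/
noncomputable def vert {T : Over S} {a b : T ⟶ U} (u : E x a b) : x.obj (Over.mk a) ⟶ x.obj (Over.mk b) :=
  (exists_vert hG u).exists.choose

theorem vert_lift {T : Over S} {a b : T ⟶ U} (u : E x a b) : 𝒳.p.IsHomLift (𝟙 T) (vert hG u) :=
  (exists_vert hG u).exists.choose_spec.1

theorem vert_toId {T : Over S} {a b : T ⟶ U} (u : E x a b) : vert hG u ≫ x.map (Yon.toId (Over.mk b)) = u.1 :=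
  (exists_vert hG u).exists.choose_spec.2

theorem vert_eq {T : Over S} {a b : T ⟶ U} {u : E x a b} {v : x.obj (Over.mk a) ⟶ x.obj (Over.mk b)}
    (h1 : 𝒳.p.IsHomLift (𝟙 T) v) (h2 : v ≫ x.map (Yon.toId (Over.mk b)) = u.1) : v = vert hG u :=
  (exists_vert hG u).unique ⟨h1, h2⟩ ⟨vert_lift hG u, vert_toId hG u⟩

/-- Composition. -/
noncomputable def star {T : Over S} {a b c : T ⟶ U} (u : E x a b) (u' : E x b c) : E x a c :=
  ⟨vert hG u ≫ u'.1, have := vert_lift hG u; have := u'.2; IsHomLift.comp_lift_id_left' 𝒳.p T _ _ _⟩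

theorem rmap_vert {T T' : Over S} {a b : T ⟶ U} {a' b' : T' ⟶ U} (k : T' ⟶ T) (ha : k ≫ a = a')
    (hb : k ≫ b = b') (u : E x a b) :
    rmap x k ha ≫ vert hG u = vert hG (E.res k ha hb u) ≫ rmap x k hb := by
  have := toId_lift' x b
  have := rmap_lift x k ha
  have := rmap_lift x k hb
  have := vert_lift hG u
  have := vert_lift hG (E.res k ha hb u)
  have : 𝒳.p.IsHomLift k (rmap x k ha ≫ vert hG u) := IsHomLift.comp_lift_id_right' 𝒳.p k _ T _
  have : 𝒳.p.IsHomLift k (vert hG (E.res k ha hb u) ≫ rmap x k hb) := IsHomLift.comp_lift_id_left' 𝒳.p T' _ _ _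
  refine IsFibGrpd.hom_ext hG k b (x.map (Yon.toId (Over.mk b))) ?_
  rw [Category.assoc, Category.assoc, rmap_toId, vert_toId, vert_toId]
  rfl

theorem res_star {T T' : Over S} {a b c : T ⟶ U} {a' b' c' : T' ⟶ U} (k : T' ⟶ T) (ha : k ≫ a = a')
    (hb : k ≫ b = b') (hc : k ≫ c = c') (u : E x a b) (u' : E x b c) :
    E.res k ha hc (star hG u u') = star hG (E.res k ha hb u) (E.res k hb hc u') := by
  refine Subtype.ext ?_
  change rmap x k ha ≫ vert hG u ≫ u'.1 = vert hG (E.res k ha hb u) ≫ rmap x k hb ≫ u'.1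
  rw [← Category.assoc, rmap_vert hG k ha hb, Category.assoc]

/-- A smooth point has at most one morphism with given base to the universal value, if its automorphisms are trivial. -/
theorem subsingleton_of_rigid {T : Over S} {a b : T ⟶ U}
    (h : ∀ s : x.obj (Over.mk a) ⟶ x.obj (Over.mk a), 𝒳.p.IsHomLift (𝟙 T) s → s = 𝟙 _) :
    Subsingleton (E x a b) := by
  refine ⟨fun u u' => Subtype.ext ?_⟩
  have := u'.2
  have : 𝒳.p.IsHomLift (𝟙 T ≫ b) u.1 := by rw [Category.id_comp]; exact u.2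
  obtain ⟨s, ⟨hs, es⟩, -⟩ := IsFibGrpd.existsUnique_lift hG b (𝟙 T) u'.1 u.1
  rw [← es, h s hs, Category.id_comp]

end Vert

section Glue

variable (hst : _root_.Stk.IsStack (AlgSp.J S) 𝒳)
include hst

theorem E_ext {T : Over S} {a b : T ⟶ U} {R : Sieve T} (hR : R ∈ AlgSp.J S T) (ν ν' : E x a b)
    (h : ∀ {V : Over S} (c : V ⟶ T), R c → E.res c rfl rfl ν = E.res c rfl rfl ν') : ν = ν' := by
  have hA : 𝒳.p.obj (x.obj (Over.mk a)) = T := x.w_obj _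
  let R' : Sieve (𝒳.p.obj (x.obj (Over.mk a))) := R.pullback (eqToHom hA)
  have : (_root_.Stk.resSieve R' 𝒳).IsEquivalence := hst.2 R' ((AlgSp.J S).pullback_stable _ hR)
  have := ν.2
  have := ν'.2
  refine Subtype.ext (GrothLib.Stk.Descent.hom_ext hst.1 (R := R') inferInstance ν.1 ν'.1
    (by rw [IsHomLift.fac' 𝒳.p b ν.1, IsHomLift.fac' 𝒳.p b ν'.1]) fun {z} κ hκ => ?_)
  let c : 𝒳.p.obj z ⟶ T := 𝒳.p.map κ ≫ eqToHom hA
  have := rmap_lift x c (a := a) rfl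
  have : 𝒳.p.IsHomLift (𝟙 (𝒳.p.obj z) ≫ c) κ := by
    rw [Category.id_comp]; exact IsHomLift.of_fac 𝒳.p _ _ rfl hA (by simp [c])
  obtain ⟨θ, ⟨-, eθ⟩, -⟩ := IsFibGrpd.existsUnique_lift hst.1 c (𝟙 (𝒳.p.obj z)) (rmap x c (a := a) rfl) κ
  exact (congrArg (· ≫ ν.1) eθ.symm).trans ((Category.assoc _ _ _).trans
    ((congrArg (θ ≫ ·) (congrArg Subtype.val (h c hκ))).trans ((Category.assoc _ _ _).symm.trans
      (congrArg (· ≫ ν'.1) eθ))))

theorem E_glue {T : Over S} {a b : T ⟶ U} {R : Sieve T} (hR : R ∈ AlgSp.J S T)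
    (e : ∀ {V : Over S} (c : V ⟶ T), R c → E x (c ≫ a) (c ≫ b))
    (he : ∀ {W V : Over S} (l : W ⟶ V) (c : V ⟶ T) (hc : R c) (hlc : R (l ≫ c)),
      E.res l (Category.assoc l c a).symm (Category.assoc l c b).symm (e c hc) = e (l ≫ c) hlc) :
    ∃ ν : E x a b, ∀ {V : Over S} (c : V ⟶ T) (hc : R c), E.res c rfl rfl ν = e c hc := by
  have hA : 𝒳.p.obj (x.obj (Over.mk a)) = T := x.w_obj _
  have hU : 𝒳.p.obj (x.obj (Yon.idObj U)) = U := x.w_obj _
  let R' : Sieve (𝒳.p.obj (x.obj (Over.mk a))) := R.pullback (eqToHom hA)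
  have key : ∀ {z : 𝒳.obj} (κ : z ⟶ x.obj (Over.mk a)),
      ∃! θ : z ⟶ x.obj (Over.mk ((𝒳.p.map κ ≫ eqToHom hA) ≫ a)), 𝒳.p.IsHomLift (𝟙 (𝒳.p.obj z)) θ ∧
        θ ≫ rmap x (𝒳.p.map κ ≫ eqToHom hA) (a := a) rfl = κ := fun {z} κ => by
    have := rmap_lift x (𝒳.p.map κ ≫ eqToHom hA) (a := a) rfl
    have : 𝒳.p.IsHomLift (𝟙 (𝒳.p.obj z) ≫ (𝒳.p.map κ ≫ eqToHom hA)) κ := by
      rw [Category.id_comp]; exact IsHomLift.of_fac 𝒳.p _ _ rfl hA (by simp)
    exact IsFibGrpd.existsUnique_lift hst.1 (𝒳.p.map κ ≫ eqToHom hA) (𝟙 (𝒳.p.obj z))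
      (rmap x (𝒳.p.map κ ≫ eqToHom hA) (a := a) rfl) κ
  choose θ hθ hθu using @key
  let L : GrothLib.Stk.Descent.Local 𝒳.p (x.obj (Over.mk a)) (x.obj (Yon.idObj U)) R'
      (eqToHom hA ≫ b ≫ eqToHom hU.symm) :=
    { n := fun κ hκ => θ κ ≫ (e _ hκ).1
      map_n := fun {z} κ hκ => by
        have := (hθ κ).1
        have := (e _ hκ).2
        rw [𝒳.p.map_comp, IsHomLift.fac' 𝒳.p (𝟙 (𝒳.p.obj z)) (θ κ),
          IsHomLift.fac' 𝒳.p ((𝒳.p.map κ ≫ eqToHom hA) ≫ b) (e _ hκ).1]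
        simp
      comp := fun {z' z} l κ hκ h' => by
        let r : 𝒳.p.obj z' ⟶ 𝒳.p.obj z := 𝒳.p.map l
        let cκ := 𝒳.p.map κ ≫ eqToHom hA
        have er : r ≫ cκ = 𝒳.p.map (l ≫ κ) ≫ eqToHom hA := by simp [r, cκ]
        have ea : r ≫ cκ ≫ a = (𝒳.p.map (l ≫ κ) ≫ eqToHom hA) ≫ a := by rw [← er]; exact (Category.assoc _ _ _).symm
        have i0 : 𝒳.p.IsHomLift r l := IsHomLift.map 𝒳.p l
        have i1 := (hθ κ).1
        have i2 := (hθ (l ≫ κ)).1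
        have i3 := rmap_lift x cκ (a := a) rfl
        have i4 := rmap_lift x r (a := cκ ≫ a) (a' := (𝒳.p.map (l ≫ κ) ≫ eqToHom hA) ≫ a)
          ea
        have i5 : 𝒳.p.IsHomLift r (l ≫ θ κ) := IsHomLift.comp_lift_id_right' 𝒳.p r l (𝒳.p.obj z) _
        have i6 : 𝒳.p.IsHomLift r (θ (l ≫ κ) ≫ rmap x r (a := cκ ≫ a)
            (a' := (𝒳.p.map (l ≫ κ) ≫ eqToHom hA) ≫ a) ea) :=
          IsHomLift.comp_lift_id_left' 𝒳.p (𝒳.p.obj z') _ _ _
        have k1 : l ≫ θ κ = θ (l ≫ κ) ≫ rmap x r (a := cκ ≫ a)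
            (a' := (𝒳.p.map (l ≫ κ) ≫ eqToHom hA) ≫ a) ea := by
          refine IsFibGrpd.hom_ext hst.1 r cκ (rmap x cκ (a := a) rfl) ?_
          have hco : rmap x (r ≫ cκ) (a := a) (a' := (𝒳.p.map (l ≫ κ) ≫ eqToHom hA) ≫ a) (by rw [er]) =
              rmap x (𝒳.p.map (l ≫ κ) ≫ eqToHom hA) (a := a) rfl :=
            congrArg x.map (Over.OverMorphism.ext er)
          rw [Category.assoc, (hθ κ).2, Category.assoc, rmap_rmap, hco, (hθ (l ≫ κ)).2]
        rw [← Category.assoc, k1, Category.assoc]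
        refine congrArg (θ (l ≫ κ) ≫ ·) ?_
        have hl : R (r ≫ cκ) := er ▸ h'
        have h2 := congrArg Subtype.val (he r cκ hκ hl)
        have gen : ∀ {c' : 𝒳.p.obj z' ⟶ T} (h : r ≫ cκ = c') (hm : R c'),
            rmap x r (a := cκ ≫ a) (a' := c' ≫ a) ((Category.assoc _ _ _).symm.trans (congrArg (· ≫ a) h)) ≫ (e cκ hκ).1 = (e c' hm).1 := by
          intro c' h hm
          subst h
          exact h2
        exact gen er h' }
  have : (_root_.Stk.resSieve R' 𝒳).IsEquivalence := hst.2 R' ((AlgSp.J S).pullback_stable _ hR)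
  obtain ⟨β, hβ, hβ'⟩ := GrothLib.Stk.Descent.exists_hom hst.1 (R := R') inferInstance L
  have hβl : 𝒳.p.IsHomLift b β := IsHomLift.of_fac' 𝒳.p _ _ hA hU hβ
  refine ⟨⟨β, hβl⟩, fun {V} c hc => Subtype.ext ?_⟩
  have hrl := rmap_lift x c (a := a) rfl
  have hV : 𝒳.p.obj (x.obj (Over.mk (c ≫ a))) = V := x.w_obj _
  have hp : 𝒳.p.map (rmap x c (a := a) rfl) ≫ eqToHom hA = eqToHom hV ≫ c := by
    rw [IsHomLift.fac' 𝒳.p c (rmap x c (a := a) rfl)]; simp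
  have hmem : R' (𝒳.p.map (rmap x c (a := a) rfl)) := by
    change R (𝒳.p.map (rmap x c (a := a) rfl) ≫ eqToHom hA)
    rw [hp]; exact R.downward_closed hc _
  change rmap x c rfl ≫ β = _
  rw [hβ' _ hmem]
  have key2 : ∀ {c' : 𝒳.p.obj (x.obj (Over.mk (c ≫ a))) ⟶ T} (h : eqToHom hV ≫ c = c') (hm : R c')
      (θ' : x.obj (Over.mk (c ≫ a)) ⟶ x.obj (Over.mk (c' ≫ a))),
      𝒳.p.IsHomLift (𝟙 (𝒳.p.obj (x.obj (Over.mk (c ≫ a))))) θ' →
        θ' ≫ rmap x c' (a := a) rfl = rmap x c (a := a) rfl → θ' ≫ (e c' hm).1 = (e c hc).1 := by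
    intro c' h hm θ' hθ' eθ'
    subst h
    have h3 := congrArg Subtype.val (he (eqToHom hV) c hc hm)
    have i1 := rmap_lift x (eqToHom hV) (a := c ≫ a) (a' := (eqToHom hV ≫ c) ≫ a) (Category.assoc _ _ _).symm
    have i3 : 𝒳.p.IsHomLift (eqToHom hV) (𝟙 (x.obj (Over.mk (c ≫ a)))) :=
      IsHomLift.of_fac' 𝒳.p _ _ rfl hV (by simp)
    have i4 : 𝒳.p.IsHomLift (eqToHom hV) (θ' ≫ rmap x (eqToHom hV) (a := c ≫ a)
        (a' := (eqToHom hV ≫ c) ≫ a) (Category.assoc _ _ _).symm) :=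
      IsHomLift.comp_lift_id_left' 𝒳.p (𝒳.p.obj (x.obj (Over.mk (c ≫ a)))) θ' _ _
    have k : θ' ≫ rmap x (eqToHom hV) (a := c ≫ a) (a' := (eqToHom hV ≫ c) ≫ a) (Category.assoc _ _ _).symm =
        𝟙 _ := by
      refine IsFibGrpd.hom_ext hst.1 (eqToHom hV) c (rmap x c (a := a) rfl) ?_
      rw [Category.assoc, rmap_rmap, Category.id_comp]
      exact eθ'
    calc θ' ≫ (e (eqToHom hV ≫ c) hm).1
        = θ' ≫ rmap x (eqToHom hV) (a := c ≫ a) (Category.assoc _ _ _).symm ≫ (e c hc).1 := congrArg (θ' ≫ ·) h3.symm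
      _ = (e c hc).1 := by rw [← Category.assoc, k, Category.id_comp]
  exact key2 hp.symm hmem _ (hθ _).1 (hθ _).2

end Glue

end GrothLib.IsoNat.Bald
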