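import Groth.Prelude.Def_W4c2isonaturalstkIso
import Groth.Prelude.Def_CInt
import Groth.Agent.Lib.AlgSt.SepDense
import Groth.Agent.Lib.AlgSt.FieldChart
import Groth.Agent.Lib.SchDense.CIntDense

/-!
# Smooth charts of a bald stack have no automorphisms
-/

set_option backward.isDefEq.respectTransparency false
set_option backward.isDefEq.respectTransparency.types false

universe u

open CategoryTheory CategoryTheory.Limits AlgebraicGeometry Opposite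

namespace GrothLib.IsoNat.Bald

open _root_.AlgSt GrothLib.FibCat GrothLib.AlgSt

variable {S : Scheme.{u}} {𝒳 : _root_.AlgSt.Cat S}

/-- The hypothesis that every smooth chart becomes clean on a schematically dense open. -/
def IsBald (𝒳 : _root_.AlgSt.Cat S) : Prop :=
  ∀ (U : Over S) (x : _root_.FibCat.overCat U ⥤ᵇ 𝒳), RepByAlgSpWith (AlgSp.LocP @Smooth) x →
    ∃ V : U.left.Opens,
      (∀ (T : Over S) (g : T ⟶ U), (∃ g' : T.left ⟶ ↑V, g' ≫ V.ι = g.left) ↔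
        _root_.IsoNat.IsClean (x.obj (Over.mk g))) ∧
      CInt.IsSchematicallyDense V

/-- `aut_eq_of_agree` along a lift. -/
theorem aut_eq_of_agree_lift
    (hd : RepByAlgSpWith AlgSp.IsSeparatedMor (_root_.FibCat.diag (_root_.FibCat.toSelf 𝒳)))
    (h𝒳 : _root_.FibCat.IsFibGrpd 𝒳.p) {R T : Over S} (f : R ⟶ T) [IsSchemeTheoreticallyDominant f.left]
    {y y' : 𝒳.obj} (κ : y' ⟶ y) [𝒳.p.IsHomLift f κ] (a b : y ⟶ y) (ha : 𝒳.p.map a = 𝟙 _)
    (hb : 𝒳.p.map b = 𝟙 _) (h : κ ≫ a = κ ≫ b) : a = b := by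
  obtain rfl := IsHomLift.domain_eq 𝒳.p f κ
  obtain rfl := IsHomLift.codomain_eq 𝒳.p f κ
  obtain rfl := IsHomLift.eq_of_isHomLift 𝒳.p f κ
  exact aut_eq_of_agree hd h𝒳 κ a b ha hb h

variable (hd : RepByAlgSpWith AlgSp.IsSeparatedMor (_root_.FibCat.diag (_root_.FibCat.toSelf 𝒳)))
  (h𝒳 : _root_.FibCat.IsFibGrpd 𝒳.p) (hb : IsBald 𝒳)
include hd h𝒳 hb

/-- The automorphisms of a smooth chart are trivial. -/
theorem rigid_of_bald {W : Over S} (z : _root_.FibCat.overCat W ⥤ᵇ 𝒳)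
    (hz : RepByAlgSpWith (AlgSp.LocP @Smooth) z) (s : z.obj (Yon.idObj W) ⟶ z.obj (Yon.idObj W))
    (hs : 𝒳.p.IsHomLift (𝟙 W) s) : s = 𝟙 _ := by
  obtain ⟨V, hV, hdense⟩ := hb W z hz
  let Vo : Over S := Over.mk (V.ι ≫ W.hom)
  let j : Vo ⟶ W := Over.homMk V.ι rfl
  have hcl : _root_.IsoNat.IsClean (z.obj (Over.mk j)) := (hV Vo j).1 ⟨𝟙 _, Category.id_comp _⟩
  have := Yon.toId_lift (U := W) (Over.mk j)
  have hκ : 𝒳.p.IsHomLift j (z.map (Yon.toId (Over.mk j))) := BasedFunctor.preserves_isHomLift z (Over.mk j).hom _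
  have hW : 𝒳.p.obj (z.obj (Yon.idObj W)) = W := z.w_obj _
  have hsm : 𝒳.p.map s = 𝟙 _ := by
    rw [IsHomLift.fac' 𝒳.p (𝟙 W) s]; simp
  have hsl : 𝒳.p.IsHomLift j (z.map (Yon.toId (Over.mk j)) ≫ s) := IsHomLift.comp_lift_id_right' 𝒳.p j _ W s
  have hsl' : 𝒳.p.IsHomLift (𝟙 Vo ≫ j) (z.map (Yon.toId (Over.mk j)) ≫ s) := by
    rw [Category.id_comp]; exact hsl
  obtain ⟨σ, ⟨hσ, eσ⟩, -⟩ := IsFibGrpd.existsUnique_lift h𝒳 j (𝟙 Vo) (z.map (Yon.toId (Over.mk j)))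
    (z.map (Yon.toId (Over.mk j)) ≫ s)
  have hσm : 𝒳.p.map σ = 𝟙 _ := by
    rw [IsHomLift.fac' 𝒳.p (𝟙 Vo) σ]; simp
  rw [hcl _ (𝟙 _) σ hσm, Category.id_comp] at eσ
  have : IsSchemeTheoreticallyDominant j.left := GrothLib.SchDense.isSchemeTheoreticallyDominant_ι hdense
  exact aut_eq_of_agree_lift hd h𝒳 j (z.map (Yon.toId (Over.mk j))) s (𝟙 _) hsm (𝒳.p.map_id _)
    (by rw [Category.comp_id]; exact eσ.symm)

/-- Vertical endomorphisms of the value of a smooth chart at a smooth point are trivial. -/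
theorem rigid_point {U T : Over S} (x : _root_.FibCat.overCat U ⥤ᵇ 𝒳)
    (hx : RepByAlgSpWith (AlgSp.LocP @Smooth) x) (a : T ⟶ U) (ha : Smooth a.left)
    (s : x.obj (Over.mk a) ⟶ x.obj (Over.mk a)) (hs : 𝒳.p.IsHomLift (𝟙 T) s) : s = 𝟙 _ := by
  let z := BasedFunctor.comp (GrothLib.FibCat.overMap a) x
  have hz : RepByAlgSpWith (AlgSp.LocP @Smooth) z :=
    repByAlgSpWith_overMap_comp GrothLib.AlgSp.EtLocal.smooth h𝒳 a ha x hx
  let o : (_root_.FibCat.overCat U).obj := (GrothLib.FibCat.overMap a).obj (Yon.idObj T)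
  let m : Over.mk a ≅ o := Over.isoMk (Iso.refl T) (by
    change 𝟙 T ≫ o.hom = a
    exact (Category.id_comp _).trans (Category.id_comp _))
  have hm : (_root_.FibCat.overCat U).p.IsHomLift (𝟙 T) m.hom := IsHomLift.map (_root_.FibCat.overCat U).p m.hom
  have hm' : (_root_.FibCat.overCat U).p.IsHomLift (𝟙 T) m.inv := IsHomLift.map (_root_.FibCat.overCat U).p m.inv
  let i := x.toFunctor.mapIso m
  have : 𝒳.p.IsHomLift (𝟙 T) i.hom := BasedFunctor.preserves_isHomLift x (𝟙 T) m.hom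
  have : 𝒳.p.IsHomLift (𝟙 T) i.inv := BasedFunctor.preserves_isHomLift x (𝟙 T) m.inv
  have : 𝒳.p.IsHomLift (𝟙 T) (s ≫ i.hom) := IsHomLift.comp_lift_id_left' 𝒳.p T s _ _
  have h1 : 𝒳.p.IsHomLift (𝟙 T) (i.inv ≫ s ≫ i.hom) := IsHomLift.comp_lift_id_left' 𝒳.p T i.inv _ _
  have h2 := rigid_of_bald hd h𝒳 hb z hz (i.inv ≫ s ≫ i.hom) h1
  calc s = i.hom ≫ (i.inv ≫ s ≫ i.hom) ≫ i.inv := by simp
    _ = 𝟙 _ := by rw [h2]; exact (congrArg _ (Category.id_comp _)).trans i.hom_inv_id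

end GrothLib.IsoNat.Bald
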