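import Groth.Agent.Lib.AlgSt.IsoNat.Bald.Elements
import Groth.Agent.Lib.AlgSp.LocP

/-!
# The universal morphism between two values of a smooth chart
-/

set_option backward.isDefEq.respectTransparency false
set_option backward.isDefEq.respectTransparency.types false

universe u

open CategoryTheory CategoryTheory.Limits AlgebraicGeometry Opposite

namespace GrothLib.IsoNat.Bald

open _root_.AlgSt GrothLib.FibCat GrothLib.AlgSt

variable {S : Scheme.{u}} {𝒳 : _root_.AlgSt.Cat S} {U : Over S} (x : _root_.FibCat.overCat U ⥤ᵇ 𝒳)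

/-- A morphism between two values of the chart, smooth at the first point, from which all others come locally. -/
structure Univ where
  W : Over S
  a₀ : W ⟶ U
  b₀ : W ⟶ U
  sm : Smooth a₀.left
  u₀ : E x a₀ b₀
  loc : ∀ {T : Over S} {a b : T ⟶ U} (u : E x a b), ∃ R ∈ AlgSp.J S T, ∀ {V : Over S} (c : V ⟶ T), R c →
    ∃ (k : V ⟶ W) (ha : k ≫ a₀ = c ≫ a) (hb : k ≫ b₀ = c ≫ b), E.res k ha hb u₀ = E.res c rfl rfl u
  pair : ∀ {T : Over S} {a b : T ⟶ U} (k k' : T ⟶ W) (ha : k ≫ a₀ = a) (hb : k ≫ b₀ = b) (ha' : k' ≫ a₀ = a)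
    (hb' : k' ≫ b₀ = b), E.res k ha hb u₀ = E.res k' ha' hb' u₀ → ∃ (P : Over S) (p p' : P ⟶ W) (l : T ⟶ P),
      Smooth (p ≫ a₀).left ∧ p' ≫ a₀ = p ≫ a₀ ∧ p' ≫ b₀ = p ≫ b₀ ∧ l ≫ p = k ∧ l ≫ p' = k'

section Rep

variable {x} {F : AlgSp.Sp S} {φ : F ⟶ (AlgSp.yon S).obj U}
  (M : Model F φ (x.obj (Yon.idObj U)) (x.obj (Yon.idObj U)))

/-- The point of the space classifying the morphism. -/
def RepE {T : Over S} {a b : T ⟶ U} (m : (AlgSp.yon S).obj T ⟶ F) (u : E x a b) : Prop :=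
  M.R m (x.obj (Over.mk a)) (x.map (Yon.toId (Over.mk a))) u.1

theorem exists_repE {T : Over S} {a b : T ⟶ U} (u : E x a b) : ∃ m, RepE M m u :=
  M.tot (x.obj (Over.mk a)) _ u.1 (x.w_obj _)

theorem RepE.unique {T : Over S} {a b : T ⟶ U} {u : E x a b} {m m' : (AlgSp.yon S).obj T ⟶ F}
    (h : RepE M m u) (h' : RepE M m' u) : m = m' := by
  have := M.map_eq h h' (𝟙 T) (𝟙 _) (IsHomLift.id (x.w_obj _)) (Category.id_comp _) (Category.id_comp _)
  rw [CategoryTheory.Functor.map_id, Category.id_comp] at this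
  exact this.symm

theorem RepE.res {T T' : Over S} {a b : T ⟶ U} {a' b' : T' ⟶ U} {u : E x a b} {m : (AlgSp.yon S).obj T ⟶ F}
    (h : RepE M m u) (k : T' ⟶ T) (ha : k ≫ a = a') (hb : k ≫ b = b') :
    RepE M ((AlgSp.yon S).map k ≫ m) (E.res k ha hb u) := by
  obtain ⟨m', h'⟩ := exists_repE M (E.res k ha hb u)
  rw [M.map_eq h' h k (rmap x k ha) (rmap_lift x k ha) (rmap_toId x k ha) rfl]
  exact h'

theorem RepE.fst_eq {T : Over S} {a b : T ⟶ U} {u : E x a b} {m : (AlgSp.yon S).obj T ⟶ F}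
    (h : RepE M m u) : m ≫ φ = (AlgSp.yon S).map a := by
  obtain ⟨c, hc, hcφ⟩ := M.base h
  rw [hcφ, eq_of_lifts 𝒳.p _ hc (toId_lift' x a)]

variable (hG : _root_.FibCat.IsFibGrpd 𝒳.p)
include hG

theorem RepE.snd_eq {T : Over S} {a b b' : T ⟶ U} {u : E x a b} {u' : E x a b'} {m : (AlgSp.yon S).obj T ⟶ F}
    (h : RepE M m u) (h' : RepE M m u') : b = b' ∧ u.1 = u'.1 := by
  obtain ⟨κ, hκ, hv, hu⟩ := M.exists_hom h h' (𝟙 T) (by rw [CategoryTheory.Functor.map_id, Category.id_comp])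
  have := toId_lift' x a
  have : 𝒳.p.IsHomLift (𝟙 T) (𝟙 (x.obj (Over.mk a))) := IsHomLift.id (x.w_obj _)
  have e : κ = 𝟙 _ := IsFibGrpd.hom_ext hG (𝟙 T) a (x.map (Yon.toId (Over.mk a))) (by rw [hv, Category.id_comp])
  rw [e, Category.id_comp] at hu
  have h2 := u'.2
  rw [hu] at h2
  exact ⟨eq_of_lifts 𝒳.p _ u.2 h2, hu.symm⟩

end Rep

/-- A smooth chart has a universal morphism between two of its values. -/
theorem exists_univ (hG : _root_.FibCat.IsFibGrpd 𝒳.p) (hx : RepByAlgSpWith (AlgSp.LocP @Smooth) x) :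
    Nonempty (Univ x) := by
  obtain ⟨F, e, he, hFs⟩ := hx U x
  obtain ⟨M⟩ := exists_model x x e hG he
  let φ := spMapOfOver (BasedFunctor.comp e (_root_.FibCat.fpFst x x))
  obtain ⟨W, a, ha, has⟩ := F.property.atlas
  obtain ⟨h, hh⟩ := (AlgSp.yon S).map_surjective (a ≫ φ)
  have hsm : Smooth h.left := hFs a (𝟙 _) h ha (_root_.AlgSp.repWith_id _ U) (by rw [Category.comp_id, hh])
  obtain ⟨z, v, w, hR⟩ := M.surj a
  obtain ⟨b, hb, hbφ⟩ := M.base hR
  have hbh : h = b := (AlgSp.yon S).map_injective (hh.trans hbφ)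
  subst hbh
  have hz : 𝒳.p.obj z = W := M.obj_eq hR
  let b₀ : W ⟶ U := eqToHom hz.symm ≫ 𝒳.p.map w ≫ eqToHom (x.w_obj (Yon.idObj U))
  have hw : 𝒳.p.IsHomLift b₀ w := IsHomLift.of_fac 𝒳.p _ _ hz (x.w_obj _) rfl
  have := toId_lift' x h
  have : 𝒳.p.IsHomLift (𝟙 W ≫ h) (x.map (Yon.toId (Over.mk h))) := by rw [Category.id_comp]; infer_instance
  obtain ⟨i, ⟨hi, ei⟩, -⟩ := IsFibGrpd.existsUnique_lift hG h (𝟙 W) v (x.map (Yon.toId (Over.mk h)))
  let u₀ : E x h b₀ := ⟨i ≫ w, IsHomLift.comp_lift_id_left' 𝒳.p W i b₀ w⟩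
  have hu₀ : RepE M a u₀ := by
    obtain ⟨m', h'⟩ := exists_repE M u₀
    have e := M.map_eq h' hR (𝟙 W) i hi ei rfl
    rw [CategoryTheory.Functor.map_id, Category.id_comp] at e
    rwa [e]
  refine ⟨⟨W, h, b₀, hsm, u₀, fun {T a' b'} u => ?_, fun {T a' b'} k k' ha hb ha' hb' e => ?_⟩⟩
  · obtain ⟨m, hm⟩ := exists_repE M u
    obtain ⟨T', fst, c₀, sq⟩ := GrothLib.AlgSp.exists_isPullback_of_representable ha.1 m
    have hce : Etale c₀.left := ha.2 _ _ _ sq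
    have hcs : Surjective c₀.left := has.2 _ _ _ sq
    obtain ⟨k₀, rfl⟩ := (AlgSp.yon S).map_surjective fst
    refine ⟨_, GrothLib.AlgSt.generate_singleton_mem_J c₀, fun {V} c hc => ?_⟩
    obtain ⟨_, l, _, ⟨⟩, rfl⟩ := hc
    have key : (AlgSp.yon S).map (l ≫ k₀) ≫ a = (AlgSp.yon S).map (l ≫ c₀) ≫ m := by
      rw [Functor.map_comp, Category.assoc, sq.w, Functor.map_comp, Category.assoc]
    have hka : (l ≫ k₀) ≫ h = (l ≫ c₀) ≫ a' := (AlgSp.yon S).map_injective (by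
      rw [← RepE.fst_eq M (RepE.res M hm (l ≫ c₀) rfl rfl), ← key, Functor.map_comp, hh]
      exact (Category.assoc _ _ _).symm)
    have h1 := RepE.res M hu₀ (l ≫ k₀) hka rfl
    rw [key] at h1
    obtain ⟨hkb, hv⟩ := RepE.snd_eq M hG h1 (RepE.res M hm (l ≫ c₀) rfl rfl)
    exact ⟨l ≫ k₀, hka, hkb, Subtype.ext hv⟩
  · have h1 := RepE.res M hu₀ k ha hb
    have h2 := RepE.res M hu₀ k' ha' hb'
    rw [← e] at h2
    have hkk := RepE.unique M h1 h2
    obtain ⟨P, fst, p, sq⟩ := GrothLib.AlgSp.exists_isPullback_of_representable ‹AlgSp.RepWith @Etale a›.1 a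
    have hpe : Etale p.left := (‹AlgSp.RepWith @Etale a›).2 _ _ _ sq
    obtain ⟨p', rfl⟩ := (AlgSp.yon S).map_surjective fst
    obtain ⟨l, hl⟩ := (AlgSp.yon S).map_surjective (sq.lift _ _ hkk.symm)
    have hpa : p' ≫ h = p ≫ h := (AlgSp.yon S).map_injective (by
      rw [Functor.map_comp, Functor.map_comp, hh, ← Category.assoc, sq.w, Category.assoc])
    have h3 := RepE.res M hu₀ p' hpa rfl
    rw [sq.w] at h3
    have hpb : p' ≫ b₀ = p ≫ b₀ := (RepE.snd_eq M hG h3 (RepE.res M hu₀ p rfl rfl)).1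
    refine ⟨P, p, p', l, ?_, hpa, hpb, (AlgSp.yon S).map_injective ?_, (AlgSp.yon S).map_injective ?_⟩
    · rw [Over.comp_left]; infer_instance
    · rw [Functor.map_comp, hl, sq.lift_snd]
    · rw [Functor.map_comp, hl, sq.lift_fst]

end GrothLib.IsoNat.Bald
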